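import Mathlib

/-!
# Irreducible components through a point and the local ring
-/

set_option autoImplicit false
universe u

open CategoryTheory AlgebraicGeometry TopologicalSpace

namespace FinCondH13

variable {X : Scheme.{u}}

/-- There is a generisation of `x` specialising to every generisation of `x`. -/
def HasGenPt {Z : Type*} [TopologicalSpace Z] (x : Z) : Prop :=
  ∃ η : Z, η ⤳ x ∧ ∀ y, y ⤳ x → η ⤳ y

theorem nilradical_isPrime_iff_hasGenPt (x : X) :
    (nilradical (X.presheaf.stalk x)).IsPrime ↔ HasGenPt x := by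
  rw [← PrimeSpectrum.irreducibleSpace_iff_isPrime_nilradical]
  let R := X.presheaf.stalk x
  let j : PrimeSpectrum R → X := fun p => X.fromSpecStalk x p
  have hemb : Topology.IsEmbedding j := (X.fromSpecStalk x).isEmbedding
  have hr : Set.range j = {y | y ⤳ x} := Scheme.range_fromSpecStalk
  constructor
  · intro h
    let p := genericPoint (PrimeSpectrum R)
    refine ⟨j p, by
      have : j p ∈ Set.range j := ⟨p, rfl⟩
      rwa [hr] at this, fun y hy => ?_⟩
    obtain ⟨q, rfl⟩ : y ∈ Set.range j := by rw [hr]; exact hy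
    exact (genericPoint_specializes q).map hemb.continuous
  · rintro ⟨η, hη, hall⟩
    obtain ⟨p, rfl⟩ : η ∈ Set.range j := by rw [hr]; exact hη
    have hcl : closure ({p} : Set (PrimeSpectrum R)) = Set.univ := by
      refine Set.eq_univ_of_forall fun q => ?_
      rw [← specializes_iff_mem_closure, ← hemb.isInducing.specializes_iff]
      have : j q ∈ Set.range j := ⟨q, rfl⟩
      rw [hr] at this
      exact hall _ this
    haveI : Nonempty (PrimeSpectrum R) := ⟨p⟩
    haveI : PreirreducibleSpace (PrimeSpectrum R) := ⟨by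
      rw [← hcl]; exact isIrreducible_singleton.closure.isPreirreducible⟩
    exact ⟨inferInstance⟩

/-- Components through `x` are unique iff `x` has a generic generisation. -/
theorem hasGenPt_iff {Z : Type*} [TopologicalSpace Z] [QuasiSober Z] (x : Z) :
    HasGenPt x ↔ ∀ S ∈ irreducibleComponents Z, ∀ T ∈ irreducibleComponents Z,
      x ∈ S → x ∈ T → S = T := by
  constructor
  · rintro ⟨η, hη, hall⟩
    have key : ∀ S ∈ irreducibleComponents Z, x ∈ S → S = closure {η} := by
      intro S hS hxS
      have hcl : IsClosed S := isClosed_of_mem_irreducibleComponents S hS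
      let z := hS.1.genericPoint
      have hz : IsGenericPoint z (closure S) := hS.1.isGenericPoint_genericPoint_closure
      rw [hcl.closure_eq] at hz
      have hzx : z ⤳ x := hz.specializes hxS
      have h1 : S ⊆ closure {η} := by
        rw [← hz.def]
        exact closure_minimal (Set.singleton_subset_iff.2
          (specializes_iff_mem_closure.1 (hall z hzx))) isClosed_closure
      exact le_antisymm h1 (hS.2 isIrreducible_singleton.closure h1)
    intro S hS T hT hxS hxT
    rw [key S hS hxS, key T hT hxT]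
  · intro h
    let S := irreducibleComponent x
    have hS : S ∈ irreducibleComponents Z := irreducibleComponent_mem_irreducibleComponents x
    have hxS : x ∈ S := mem_irreducibleComponent
    have hz : IsGenericPoint hS.1.genericPoint S := by
      have := hS.1.isGenericPoint_genericPoint_closure
      rwa [(isClosed_of_mem_irreducibleComponents S hS).closure_eq] at this
    refine ⟨hS.1.genericPoint, hz.specializes hxS, fun y hy => hz.specializes ?_⟩
    have hy' : x ∈ irreducibleComponent y :=
      hy.mem_closed isClosed_irreducibleComponent mem_irreducibleComponent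
    have := h _ hS _ (irreducibleComponent_mem_irreducibleComponents y) hxS hy'
    show y ∈ S
    rw [this]
    exact mem_irreducibleComponent

theorem pairwiseDisjoint_iff :
    (irreducibleComponents (X : Type u)).PairwiseDisjoint id ↔
      ∀ x : X, (nilradical (X.presheaf.stalk x)).IsPrime := by
  simp only [nilradical_isPrime_iff_hasGenPt, hasGenPt_iff]
  constructor
  · intro h x S hS T hT hxS hxT
    by_contra hne
    exact Set.disjoint_left.1 (h hS hT hne) hxS hxT
  · intro h S hS T hT hne
    exact Set.disjoint_left.2 fun x hxS hxT => hne (h x S hS T hT hxS hxT)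

/-- In a Noetherian space, a point lying in one component has an irreducible neighbourhood. -/
theorem exists_irreducible_nhd_of_noetherianSpace {Z : Type*} [TopologicalSpace Z]
    [NoetherianSpace Z] [QuasiSober Z] {x : Z} (hx : HasGenPt x) :
    ∃ W : Set Z, IsOpen W ∧ x ∈ W ∧ IsIrreducible W := by
  let bad := irreducibleComponents Z \ {S | x ∈ S}
  let W : Set Z := (⋃₀ bad)ᶜ
  have hWo : IsOpen W := by
    refine isOpen_compl_iff.2 ?_
    rw [Set.sUnion_eq_biUnion]
    exact (NoetherianSpace.finite_irreducibleComponents.sdiff (t := {S | x ∈ S})).isClosed_biUnion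
      fun S hS => isClosed_of_mem_irreducibleComponents S hS.1
  have hxW : x ∈ W := by
    rintro ⟨S, hS, hxS⟩
    exact hS.2 hxS
  let S₀ := irreducibleComponent x
  have hS₀ : S₀ ∈ irreducibleComponents Z := irreducibleComponent_mem_irreducibleComponents x
  have hWS : W ⊆ S₀ := by
    intro y hy
    have hy' := irreducibleComponent_mem_irreducibleComponents y
    by_cases hxy : x ∈ irreducibleComponent y
    · rw [← (hasGenPt_iff x).1 hx _ hy' _ hS₀ hxy mem_irreducibleComponent]
      exact mem_irreducibleComponent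
    · exact absurd ⟨_, ⟨hy', hxy⟩, mem_irreducibleComponent⟩ hy
  exact ⟨W, hWo, hxW, ⟨x, hxW⟩, hS₀.1.2.open_subset hWo hWS⟩

/-- A point with prime nilradical in the stalk of a locally Noetherian scheme has an irreducible
neighbourhood. -/
theorem exists_irreducible_nhd [IsLocallyNoetherian X] (x : X)
    (hx : (nilradical (X.presheaf.stalk x)).IsPrime) :
    ∃ U : X.Opens, x ∈ U ∧ IsIrreducible (U : Set X) := by
  obtain ⟨η, hη, hall⟩ := (nilradical_isPrime_iff_hasGenPt x).1 hx
  obtain ⟨U, hU, hxU, -⟩ :=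
    exists_isAffineOpen_mem_and_subset (x := x) (U := (⊤ : X.Opens)) trivial
  haveI : IsAffine U := hU
  haveI : IsNoetherian (U : Scheme.{u}) := {}
  have hemb : Topology.IsOpenEmbedding (U.ι : ↥(U : Scheme.{u}) → ↥X) := U.ι.isOpenEmbedding
  have hgp : HasGenPt (Z := ↥(U : Scheme.{u})) ⟨x, hxU⟩ := by
    refine ⟨⟨η, hη.mem_open U.2 hxU⟩, hemb.isInducing.specializes_iff.1 hη, fun y hy => ?_⟩
    exact hemb.isInducing.specializes_iff.1 (hall _ (hemb.isInducing.specializes_iff.2 hy))
  obtain ⟨W, hWo, hxW, hW⟩ :=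
    exists_irreducible_nhd_of_noetherianSpace (Z := ↥(U : Scheme.{u})) hgp
  exact ⟨⟨_, hemb.isOpenMap W hWo⟩, ⟨_, hxW, rfl⟩, hW.image _ hemb.continuous.continuousOn⟩

/-- A reduced stalk of a locally Noetherian scheme gives a reduced neighbourhood. -/
theorem exists_reduced_nhd [IsLocallyNoetherian X] (x : X) [IsReduced (X.presheaf.stalk x)] :
    ∃ U : X.Opens, x ∈ U ∧ AlgebraicGeometry.IsReduced (U : Scheme.{u}) := by
  classical
  obtain ⟨U, hU, hxU, -⟩ :=
    exists_isAffineOpen_mem_and_subset (x := x) (U := (⊤ : X.Opens)) trivial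
  haveI : IsNoetherianRing Γ(X, U) := IsLocallyNoetherian.component_noetherian ⟨U, hU⟩
  letI := X.presheaf.algebra_section_stalk ⟨x, hxU⟩
  haveI := hU.isLocalization_stalk ⟨x, hxU⟩
  obtain ⟨G, hG⟩ := (IsNoetherian.noetherian (nilradical Γ(X, U)) : (nilradical Γ(X, U)).FG)
  have hkill : ∀ n ∈ G, ∃ s : (hU.primeIdealOf ⟨x, hxU⟩).asIdeal.primeCompl, (s : Γ(X, U)) * n = 0 := by
    intro n hn
    have hnil : IsNilpotent n := mem_nilradical.1 (hG ▸ Ideal.subset_span hn)
    exact (IsLocalization.map_eq_zero_iff (hU.primeIdealOf ⟨x, hxU⟩).asIdeal.primeCompl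
      (X.presheaf.stalk x) n).1 (hnil.map _).eq_zero
  choose s hs using hkill
  let t : (hU.primeIdealOf ⟨x, hxU⟩).asIdeal.primeCompl := ∏ n ∈ G.attach, s n.1 n.2
  have htN : ∀ a ∈ nilradical Γ(X, U), (t : Γ(X, U)) * a = 0 := by
    intro a ha
    rw [← hG] at ha
    induction ha using Submodule.span_induction with
    | mem n hn =>
      have := Finset.prod_erase_mul (a := ⟨n, hn⟩) G.attach (fun n => s n.1 n.2)
        (Finset.mem_attach _ _)
      rw [show t = ∏ n ∈ G.attach, s n.1 n.2 from rfl, ← this, Submonoid.coe_mul, mul_assoc,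
        hs n hn, mul_zero]
    | zero => exact mul_zero _
    | add a b _ _ ha hb => rw [mul_add, ha, hb, add_zero]
    | smul c a _ ha => rw [smul_eq_mul, mul_left_comm, ha, mul_zero]
  refine ⟨X.basicOpen (t : Γ(X, U)), ?_, ?_⟩
  · show x ∈ X.basicOpen (t : Γ(X, U))
    rw [Scheme.mem_basicOpen _ _ _ hxU]
    exact IsLocalization.map_units (X.presheaf.stalk x) t
  · haveI := hU.isLocalization_basicOpen (t : Γ(X, U))
    have hred : IsReduced Γ(X, X.basicOpen (t : Γ(X, U))) := by
      refine ⟨fun z hz => ?_⟩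
      obtain ⟨⟨a, m⟩, rfl⟩ := IsLocalization.mk'_surjective (Submonoid.powers (t : Γ(X, U))) z
      obtain ⟨k, hk⟩ := hz
      rw [← IsLocalization.mk'_pow, IsLocalization.mk'_eq_zero_iff] at hk
      obtain ⟨⟨_, j, rfl⟩, hj⟩ := hk
      have hnil : IsNilpotent ((t : Γ(X, U)) ^ j * a) := ⟨k + 1, by
        have : (t : Γ(X, U)) ^ j * a ^ k = 0 := hj
        calc ((t : Γ(X, U)) ^ j * a) ^ (k + 1)
            = (t : Γ(X, U)) ^ (j * k) * a * ((t : Γ(X, U)) ^ j * a ^ k) := by ring
          _ = 0 := by rw [this, mul_zero]⟩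
      refine IsLocalization.mk'_eq_zero_iff a m |>.2 ⟨⟨(t : Γ(X, U)) ^ (j + 1), j + 1, rfl⟩, ?_⟩
      show (t : Γ(X, U)) ^ (j + 1) * a = 0
      rw [pow_succ', mul_assoc]
      exact htN _ (mem_nilradical.2 hnil)
    haveI : IsReduced (CommRingCat.of Γ(X, X.basicOpen (t : Γ(X, U)))) := hred
    exact isReduced_of_isOpenImmersion (hU.basicOpen (t : Γ(X, U))).isoSpec.hom

theorem exists_integral_nhd [IsLocallyNoetherian X] (x : X) [IsDomain (X.presheaf.stalk x)] :
    ∃ U : X.Opens, x ∈ U ∧ IsIntegral (U : Scheme.{u}) := by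
  obtain ⟨U₁, hx₁, hirr⟩ := exists_irreducible_nhd x (by
    rw [nilradical_eq_zero]; exact Ideal.isPrime_bot)
  obtain ⟨U₂, hx₂, hred⟩ := exists_reduced_nhd x
  refine ⟨U₁ ⊓ U₂, ⟨hx₁, hx₂⟩, ?_⟩
  haveI := hred
  haveI : AlgebraicGeometry.IsReduced (↑(U₁ ⊓ U₂) : Scheme.{u}) :=
    isReduced_of_isOpenImmersion (X.homOfLE inf_le_right)
  haveI : IrreducibleSpace (↑(U₁ ⊓ U₂) : Scheme.{u}) :=
    Subtype.irreducibleSpace (s := ((U₁ ⊓ U₂ : X.Opens) : Set X))
      ⟨⟨x, hx₁, hx₂⟩, hirr.2.open_subset (U₁ ⊓ U₂).2 Set.inter_subset_left⟩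
  exact isIntegral_of_irreducibleSpace_of_isReduced _

theorem irreducibleSpace_iff [IsLocallyNoetherian X] :
    IrreducibleSpace X ↔ ConnectedSpace X ∧ ∀ x : X, (nilradical (X.presheaf.stalk x)).IsPrime := by
  constructor
  · intro h
    refine ⟨inferInstance, pairwiseDisjoint_iff.1 ?_⟩
    rw [irreducibleComponents_eq_singleton]
    exact Set.pairwiseDisjoint_singleton _ _
  · rintro ⟨hc, hn⟩
    have hd := pairwiseDisjoint_iff.2 hn
    obtain ⟨x₀⟩ := hc.toNonempty
    let S := irreducibleComponent x₀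
    have hS := irreducibleComponent_mem_irreducibleComponents x₀
    have hSo : IsOpen S := by
      rw [isOpen_iff_forall_mem_open]
      intro y hy
      obtain ⟨W, hyW, hW⟩ := exists_irreducible_nhd y (hn y)
      refine ⟨W, ?_, W.2, hyW⟩
      obtain ⟨T₂, hT₂, hmax⟩ :=
        exists_mem_irreducibleComponents_subset_of_isIrreducible (W : Set X) hW
      by_cases hne : T₂ = S
      · exact hne ▸ hmax
      · exact absurd hy (Set.disjoint_left.1 (hd hT₂ hS hne) (hmax hyW))
    have huniv : S = Set.univ :=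
      IsClopen.eq_univ ⟨isClosed_irreducibleComponent, hSo⟩ ⟨x₀, mem_irreducibleComponent⟩
    haveI : Nonempty X := ⟨x₀⟩
    haveI : PreirreducibleSpace X := ⟨huniv ▸ hS.1.2⟩
    exact ⟨inferInstance⟩

theorem isIntegral_iff' [IsLocallyNoetherian X] :
    IsIntegral X ↔ ConnectedSpace X ∧ ∀ x : X, IsDomain (X.presheaf.stalk x) := by
  constructor
  · intro h
    exact ⟨inferInstance, fun x => inferInstance⟩
  · rintro ⟨hc, hd⟩
    haveI : ∀ x : X, _root_.IsReduced (X.presheaf.stalk x) := fun x => by
      haveI := hd x; infer_instance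
    haveI := isReduced_of_isReduced_stalk X
    haveI : IrreducibleSpace X := irreducibleSpace_iff.2 ⟨hc, fun x => by
      haveI := hd x
      rw [nilradical_eq_zero]; exact Ideal.isPrime_bot⟩
    exact isIntegral_of_irreducibleSpace_of_isReduced X

end FinCondH13
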