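import Mathlib

/-!
# Surjectivity and points with values in algebraically closed fields
-/

set_option autoImplicit false
universe u

open CategoryTheory AlgebraicGeometry TopologicalSpace Limits

namespace FinCondH13

/-- A nonempty scheme locally of finite type over an algebraically closed field has a section. -/
theorem exists_section {Ω : Type u} [Field Ω] [IsAlgClosed Ω] {P : Scheme.{u}}
    (p : P ⟶ Spec (CommRingCat.of Ω)) [LocallyOfFiniteType p] [hP : Nonempty P] :
    ∃ s : Spec (CommRingCat.of Ω) ⟶ P, s ≫ p = 𝟙 _ := by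
  haveI : JacobsonSpace P := LocallyOfFiniteType.jacobsonSpace p
  obtain ⟨x, -, hx⟩ := nonempty_inter_closedPoints (X := P) (Z := Set.univ) Set.univ_nonempty
    isOpen_univ.isLocallyClosed
  exact ⟨pointOfClosedPoint p x hx, pointOfClosedPoint_comp p x hx⟩

theorem lift_of_surjective {X Y : Scheme.{u}} (f : X ⟶ Y) [LocallyOfFiniteType f] [Surjective f]
    (Ω : Type u) [Field Ω] [IsAlgClosed Ω] (y : Spec (CommRingCat.of Ω) ⟶ Y) :
    ∃ x : Spec (CommRingCat.of Ω) ⟶ X, x ≫ f = y := by
  haveI : Nonempty (pullback y f : Scheme.{u}) := by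
    obtain ⟨z, -⟩ := (pullback.fst y f).surjective (IsLocalRing.closedPoint Ω)
    exact ⟨z⟩
  obtain ⟨s, hs⟩ := exists_section (pullback.fst y f)
  exact ⟨s ≫ pullback.snd y f, by
    rw [Category.assoc, ← pullback.condition, reassoc_of% hs]⟩

set_option backward.isDefEq.respectTransparency false in
theorem surjective_iff_points {X Y : Scheme.{u}} (f : X ⟶ Y) [LocallyOfFiniteType f] :
    Surjective f ↔ ∀ (Ω : Type u) [Field Ω] [IsAlgClosed Ω] (y : Spec (CommRingCat.of Ω) ⟶ Y),
      ∃ x : Spec (CommRingCat.of Ω) ⟶ X, x ≫ f = y := by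
  refine ⟨fun h Ω _ _ y => lift_of_surjective f Ω y, fun h => ⟨fun y => ?_⟩⟩
  let q : Spec (CommRingCat.of (AlgebraicClosure (Y.residueField y))) ⟶ Y :=
    Spec.map (CommRingCat.ofHom
      (algebraMap (Y.residueField y) (AlgebraicClosure (Y.residueField y)))) ≫
      Y.fromSpecResidueField y
  obtain ⟨x, hx⟩ := h _ q
  refine ⟨x (IsLocalRing.closedPoint _), ?_⟩
  rw [← Scheme.Hom.comp_apply, hx]
  show Y.fromSpecResidueField y _ = y
  exact Y.fromSpecResidueField_apply y _

/-- Embedding a finitely generated extension into a large algebraically closed field. -/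
theorem exists_algHom_of_infinite_trdeg (K Ω L : Type*) [Field K] [Field Ω] [IsAlgClosed Ω]
    [Algebra K Ω] [Field L] [Algebra K L] [Algebra.EssFiniteType K L]
    (t : ℕ → Ω) (ht : AlgebraicIndependent K t) : Nonempty (L →ₐ[K] Ω) := by
  obtain ⟨s, hs⟩ := exists_isTranscendenceBasis K L
  haveI : Finite s := finite_of_isTranscendenceBasis hs
  obtain ⟨n, ⟨e⟩⟩ := Finite.exists_equiv_fin s
  let x : Fin n → L := fun i => (e.symm i : L)
  have hx : IsTranscendenceBasis K x := hs.comp_equiv e.symm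
  letI : Algebra (MvPolynomial (Fin n) K) L := (MvPolynomial.aeval x).toRingHom.toAlgebra
  letI : Algebra (MvPolynomial (Fin n) K) Ω :=
    (MvPolynomial.aeval fun i : Fin n => t i).toRingHom.toAlgebra
  haveI : IsScalarTower K (MvPolynomial (Fin n) K) L := IsScalarTower.of_algHom (MvPolynomial.aeval x)
  haveI : IsScalarTower K (MvPolynomial (Fin n) K) Ω :=
    IsScalarTower.of_algHom (MvPolynomial.aeval fun i : Fin n => t i)
  have hinjL : Function.Injective (algebraMap (MvPolynomial (Fin n) K) L) :=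
    algebraicIndependent_iff_injective_aeval.1 hx.1
  have hinjΩ : Function.Injective (algebraMap (MvPolynomial (Fin n) K) Ω) :=
    algebraicIndependent_iff_injective_aeval.1
      (ht.comp (fun i : Fin n => (i : ℕ)) Fin.val_injective)
  haveI : FaithfulSMul (MvPolynomial (Fin n) K) L :=
    (faithfulSMul_iff_algebraMap_injective _ _).2 hinjL
  haveI : FaithfulSMul (MvPolynomial (Fin n) K) Ω :=
    (faithfulSMul_iff_algebraMap_injective _ _).2 hinjΩ
  haveI : Algebra.IsAlgebraic (MvPolynomial (Fin n) K) L := by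
    haveI := hx.isAlgebraic
    refine ⟨fun a => ?_⟩
    refine (Algebra.IsAlgebraic.isAlgebraic (R := Algebra.adjoin K (Set.range x)) a).of_ringHom_of_comp_eq
      hx.1.aevalEquiv.toAlgHom.toRingHom (RingHom.id L) hx.1.aevalEquiv.surjective
      Function.injective_id ?_
    exact RingHom.ext fun q => rfl
  haveI : Module.IsTorsionFree (MvPolynomial (Fin n) K) L := inferInstance
  haveI : Module.IsTorsionFree (MvPolynomial (Fin n) K) Ω := inferInstance
  exact ⟨(IsAlgClosed.lift (R := MvPolynomial (Fin n) K) (S := L) (M := Ω)).restrictScalars K⟩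

set_option backward.isDefEq.respectTransparency false in
/-- Every point of a `K`-scheme locally of finite type is the image of an `Ω`-point. -/
theorem exists_point_of_infinite_trdeg {K Ω : Type u} [Field K] [Field Ω] [IsAlgClosed Ω]
    [Algebra K Ω] (t : ℕ → Ω) (ht : AlgebraicIndependent K t) {Y : Scheme.{u}}
    (pY : Y ⟶ Spec (CommRingCat.of K)) [LocallyOfFiniteType pY] (y : Y) :
    ∃ q : Spec (CommRingCat.of Ω) ⟶ Y, q ≫ pY = Spec.map (CommRingCat.ofHom (algebraMap K Ω)) ∧
      q (IsLocalRing.closedPoint Ω) = y := by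
  obtain ⟨U, hU, hyU, -⟩ :=
    exists_isAffineOpen_mem_and_subset (x := y) (U := (⊤ : Y.Opens)) trivial
  let σ : CommRingCat.of K ⟶ Γ(Y, U) := Spec.preimage (hU.fromSpec ≫ pY)
  have hσ : Spec.map σ = hU.fromSpec ≫ pY := Spec.map_preimage _
  letI := σ.hom.toAlgebra
  haveI hft : Algebra.FiniteType K Γ(Y, U) := by
    have h : LocallyOfFiniteType (Spec.map σ) := by rw [hσ]; infer_instance
    exact (HasRingHomProperty.Spec_iff (P := @LocallyOfFiniteType)).1 h
  let p := hU.primeIdealOf ⟨y, hyU⟩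
  haveI : Algebra.EssFiniteType K (Ideal.ResidueField p.asIdeal) :=
    Algebra.EssFiniteType.comp K Γ(Y, U) _
  obtain ⟨g⟩ := exists_algHom_of_infinite_trdeg K Ω (Ideal.ResidueField p.asIdeal) t ht
  let ψ : Γ(Y, U) →ₐ[K] Ω := g.comp (IsScalarTower.toAlgHom K Γ(Y, U) (Ideal.ResidueField p.asIdeal))
  have hker : RingHom.ker ψ.toRingHom = p.asIdeal := by
    show RingHom.ker (g.toRingHom.comp (algebraMap Γ(Y, U) (Ideal.ResidueField p.asIdeal))) = _
    rw [RingHom.ker_comp_of_injective _ g.toRingHom.injective, Ideal.ker_algebraMap_residueField]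
  refine ⟨Spec.map (CommRingCat.ofHom ψ.toRingHom) ≫ hU.fromSpec, ?_, ?_⟩
  · rw [Category.assoc, ← hσ, ← Spec.map_comp]
    exact congrArg Spec.map (CommRingCat.hom_ext ψ.comp_algebraMap)
  · rw [Scheme.Hom.comp_apply]
    refine (congrArg hU.fromSpec (PrimeSpectrum.ext ?_)).trans (hU.fromSpec_primeIdealOf ⟨y, hyU⟩)
    show (IsLocalRing.maximalIdeal Ω).comap ψ.toRingHom = _
    rw [IsLocalRing.maximalIdeal_eq_bot, ← RingHom.ker_eq_comap_bot, hker]

set_option backward.isDefEq.respectTransparency false in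
theorem surjective_iff_points_fixed {K Ω : Type u} [Field K] [Field Ω] [IsAlgClosed Ω]
    [Algebra K Ω] (t : ℕ → Ω) (ht : AlgebraicIndependent K t) {X Y : Scheme.{u}}
    (pX : X ⟶ Spec (CommRingCat.of K)) (pY : Y ⟶ Spec (CommRingCat.of K))
    [LocallyOfFiniteType pX] [LocallyOfFiniteType pY] (f : X ⟶ Y) (hf : f ≫ pY = pX) :
    Surjective f ↔ ∀ y : Spec (CommRingCat.of Ω) ⟶ Y,
      y ≫ pY = Spec.map (CommRingCat.ofHom (algebraMap K Ω)) →
        ∃ x : Spec (CommRingCat.of Ω) ⟶ X, x ≫ f = y := by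
  haveI : LocallyOfFiniteType (f ≫ pY) := by rw [hf]; infer_instance
  haveI : LocallyOfFiniteType f := locallyOfFiniteType_of_comp f pY
  refine ⟨fun h y _ => lift_of_surjective f Ω y, fun h => ⟨fun y => ?_⟩⟩
  obtain ⟨q, hq, hqy⟩ := exists_point_of_infinite_trdeg t ht pY y
  obtain ⟨x, hx⟩ := h q hq
  exact ⟨x (IsLocalRing.closedPoint Ω), by rw [← Scheme.Hom.comp_apply, hx, hqy]⟩

end FinCondH13
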